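import Cfsg.Agent.Lib.CIT.Basic
import Cfsg.Agent.S0205
import Cfsg.Agent.Lib.Cores.MinNormal
import Cfsg.Agent.Lib.Cores.Basic
import Cfsg.Agent.Lib.PrimePowerClass.Radical

/-!
# Reductions for groups in which involution centralizers are 2-groups

* `isCIT_quotient`, `isCIT_subgroup`, `isCIT_of_forall`;
* `eq_bot_of_odd` : a nonsolvable one has no nontrivial normal subgroup of odd order;
* `exists_socle` : modulo `O₂` a nonsolvable one has a simple socle with trivial centralizer;
* `eq_top_of_odd_index` : a normal subgroup of odd index with one class of involutions is everything.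

Owner: helper32.
-/

set_option autoImplicit false
set_option linter.style.haveILetI false
set_option linter.unusedSectionVars false

namespace Cfsg.Agent.Lib.CITReduce

open Subgroup
open Cfsg.Agent.Lib.CIT
open scoped Pointwise

variable {G : Type*} [Group G] [Finite G]

/-- An element order divisible by two has no odd prime divisor. -/
theorem eq_two (h : IsCIT G) {x : G} {p : ℕ} (hp : p.Prime) (hpd : p ∣ orderOf x)
    (h2 : 2 ∣ orderOf x) : p = 2 := by
  have ht := orderOf_pow_orderOf_div (orderOf_pos x).ne' h2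
  obtain ⟨k, hk⟩ := IsPGroup.iff_orderOf.1 (h _ ht)
    ⟨x, mem_centralizer_singleton' ((Commute.refl x).pow_right _).eq⟩
  rw [Subgroup.orderOf_mk] at hk
  rw [hk] at hpd
  exact (Nat.prime_dvd_prime_iff_eq hp Nat.prime_two).1 (hp.dvd_of_dvd_pow hpd)

/-- The element-wise criterion. -/
theorem isCIT_of_eq_two (h : ∀ (x : G) (p : ℕ), p.Prime → p ∣ orderOf x → 2 ∣ orderOf x → p = 2) :
    IsCIT G := by
  intro t ht
  refine IsPGroup.iff_orderOf.2 fun c => ⟨_, Nat.eq_prime_pow_of_unique_prime_dvd (orderOf_pos c).ne' ?_⟩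
  intro p hp hpd
  by_contra hp2
  rw [← Subgroup.orderOf_coe] at hpd
  have hy := orderOf_pow_orderOf_div (orderOf_pos (c : G)).ne' hpd
  have hc : Commute ((c : G) ^ (orderOf (c : G) / p)) t :=
    (show Commute (c : G) t from Subgroup.mem_centralizer_singleton_iff.1 c.2).pow_left _
  have ho := hc.orderOf_mul_eq_mul_orderOf_of_coprime
    (by rw [hy, ht]; exact (Nat.coprime_primes hp Nat.prime_two).2 hp2)
  rw [hy, ht] at ho
  exact hp2 (h _ p hp (ho ▸ dvd_mul_right p 2) (ho ▸ dvd_mul_left 2 p))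

/-- No element of order `2 * p` with `p` an odd prime gives the condition. -/
theorem isCIT_of_forall (h : ∀ p : ℕ, p.Prime → p ≠ 2 → ¬ ∃ x : G, orderOf x = 2 * p) : IsCIT G := by
  refine isCIT_of_eq_two fun x p hp hpd h2 => ?_
  by_contra hp2
  have hd : 2 * p ∣ orderOf x :=
    ((Nat.coprime_primes Nat.prime_two hp).2 (Ne.symm hp2)).mul_dvd_of_dvd_of_dvd h2 hpd
  exact h p hp hp2 ⟨_, orderOf_pow_orderOf_div (orderOf_pos x).ne' hd⟩

theorem isCIT_of_surjective (h : IsCIT G) {Q : Type*} [Group Q] (f : G →* Q) (hf : Function.Surjective f) :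
    IsCIT Q := by
  haveI := Finite.of_surjective f hf
  refine isCIT_of_eq_two fun q p hp hpd h2 => ?_
  obtain ⟨g, rfl⟩ := hf q
  exact eq_two h hp (hpd.trans (orderOf_map_dvd f g)) (h2.trans (orderOf_map_dvd f g))

theorem isCIT_quotient (h : IsCIT G) (N : Subgroup G) [N.Normal] : IsCIT (G ⧸ N) :=
  isCIT_of_surjective h _ (QuotientGroup.mk'_surjective N)

theorem isCIT_subgroup (h : IsCIT G) (H : Subgroup G) : IsCIT H :=
  isCIT_of_eq_two fun x p hp hpd h2 => by
    rw [← Subgroup.orderOf_coe] at hpd h2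
    exact eq_two h hp hpd h2

theorem exists_involution_of_not_isSolvable (h : ¬ Group.IsSolvable G) : ∃ t : G, orderOf t = 2 := by
  haveI : Fact (Nat.Prime 2) := ⟨Nat.prime_two⟩
  refine exists_prime_orderOf_dvd_card' 2 ?_
  by_contra h2
  exact h (Cfsg.Agent.S0205.result (Nat.not_even_iff_odd.1 fun he => h2 he.two_dvd))

/-- A nonsolvable CIT group has no nontrivial normal subgroup of odd order. -/
theorem eq_bot_of_odd (h : IsCIT G) (hns : ¬ Group.IsSolvable G) (N : Subgroup G) [N.Normal]
    (hN : Odd (Nat.card N)) : N = ⊥ := by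
  by_contra hN1
  have hodd : ∀ n ∈ N, Odd (orderOf n) := fun n hn => hN.of_dvd_nat (N.orderOf_dvd_natCard hn)
  -- every involution inverts `N`
  have hinv : ∀ t : G, orderOf t = 2 → ∀ v ∈ N, t * v * t⁻¹ = v⁻¹ := by
    intro t ht
    have ht2 : t * t = 1 := by rw [← pow_two, ← ht, pow_orderOf_eq_one]
    let f : N → N := fun v =>
      ⟨(v : G)⁻¹ * (t * v * t⁻¹), N.mul_mem (N.inv_mem v.2) ((inferInstance : N.Normal).conj_mem _ v.2 t)⟩
    have hfinj : Function.Injective f := by
      intro a b hab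
      have hab' : (a : G)⁻¹ * (t * a * t⁻¹) = (b : G)⁻¹ * (t * b * t⁻¹) := congrArg Subtype.val hab
      have h2 : t * (a : G) * t⁻¹ = a * ((b : G)⁻¹ * (t * b * t⁻¹)) := by rw [← hab']; group
      have h1 : t * ((a : G) * (b : G)⁻¹) * t⁻¹ = (a : G) * (b : G)⁻¹ := by
        calc t * ((a : G) * (b : G)⁻¹) * t⁻¹ = (t * a * t⁻¹) * (t * b * t⁻¹)⁻¹ := by group
          _ = _ := by rw [h2]; group
      exact Subtype.ext (mul_inv_eq_one.1 (eq_one_of_odd_of_two (h t ht)
        (mem_centralizer_singleton' (mul_inv_eq_iff_eq_mul.1 h1).symm)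
        (hodd _ (N.mul_mem a.2 (N.inv_mem b.2)))))
    intro v hv
    obtain ⟨a, ha⟩ := Finite.surjective_of_injective hfinj ⟨v, hv⟩
    have ha' : (a : G)⁻¹ * (t * a * t⁻¹) = v := congrArg Subtype.val ha
    have ht' : t⁻¹ = t := inv_eq_of_mul_eq_one_left ht2
    rw [← ha']
    simp only [mul_inv_rev, inv_inv, ht', mul_assoc, ht2, mul_one]
  set W := Subgroup.centralizer (N : Set G)
  haveI : W.Normal := Subgroup.normal_centralizer
  -- `W` has odd order
  have hWno : ∀ u ∈ W, orderOf u ≠ 2 := by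
    intro u hu ho
    obtain ⟨n, hn, hn1⟩ := N.bot_or_exists_ne_one.resolve_left hN1
    have h1 := hinv u ho n hn
    rw [← Subgroup.mem_centralizer_iff.1 hu n hn, mul_inv_cancel_right] at h1
    have h2 : orderOf n ∣ 2 := orderOf_dvd_of_pow_eq_one (by rw [pow_two, ← eq_inv_iff_mul_eq_one]; exact h1)
    rcases (Nat.dvd_prime Nat.prime_two).1 h2 with e | e
    · exact hn1 (orderOf_eq_one_iff.1 e)
    · exact absurd (hodd n hn) (by rw [e]; decide)
  have hWodd : Odd (Nat.card W) := by
    haveI : Fact (Nat.Prime 2) := ⟨Nat.prime_two⟩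
    refine Nat.not_even_iff_odd.1 fun he => ?_
    obtain ⟨u, hu⟩ := exists_prime_orderOf_dvd_card' (G := W) 2 he.two_dvd
    exact hWno u u.2 (by rwa [Subgroup.orderOf_coe])
  obtain ⟨t, ht⟩ := exists_involution_of_not_isSolvable hns
  have ht2 : t * t = 1 := by rw [← pow_two, ← ht, pow_orderOf_eq_one]
  have ht' : t⁻¹ = t := inv_eq_of_mul_eq_one_left ht2
  -- products of two involutions centralize `N`
  have hcen : (QuotientGroup.mk' W t : G ⧸ W) ∈ Subgroup.center (G ⧸ W) := by
    refine Subgroup.mem_center_iff.2 fun g => ?_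
    obtain ⟨g, rfl⟩ := QuotientGroup.mk'_surjective W g
    rw [← map_mul, ← map_mul]
    refine (QuotientGroup.eq).2 (Subgroup.mem_centralizer_iff.2 fun v hv => ?_)
    have hs : orderOf (t⁻¹ * (g⁻¹ * t⁻¹ * g) * t) = 2 := by
      have h0 := (MulAut.conj (t⁻¹ * g⁻¹)).orderOf_eq t⁻¹
      rw [orderOf_inv, ht] at h0
      rw [← h0]; congr 1
      simp only [MulAut.conj_apply, mul_inv_rev, inv_inv]; group
    set s := t⁻¹ * (g⁻¹ * t⁻¹ * g) * t with hsdef
    have h1 : ((t * g)⁻¹ * (g * t) : G) = g⁻¹ * t⁻¹ * g * t := by group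
    have h2 : ((g * t)⁻¹ * (t * g) : G) = t⁻¹ * g⁻¹ * t * g := by group
    have h3 := hinv t ht v hv
    have h4 := hinv s hs v⁻¹ (N.inv_mem hv)
    rw [inv_inv] at h4
    rw [← h3] at h4
    have h5 : (s * t) * v * (s * t)⁻¹ = v := by
      rw [h3] at h4
      calc (s * t) * v * (s * t)⁻¹ = s * (t * v * t⁻¹) * s⁻¹ := by group
        _ = v := by rw [h3]; exact h4
    have h6 : ((g * t)⁻¹ * (t * g) : G) = s * t := by rw [hsdef, ht']; group; simp [ht2, ht', mul_assoc]
    rw [h6]
    exact (mul_inv_eq_iff_eq_mul.1 h5).symm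
  have htW : t ∉ W := fun hm => hWno t hm ht
  have ho : orderOf (QuotientGroup.mk' W t : G ⧸ W) = 2 :=
    ((Nat.dvd_prime Nat.prime_two).1 (ht ▸ orderOf_map_dvd _ t)).resolve_left
      (mt orderOf_eq_one_iff.1 fun e => htW ((QuotientGroup.eq_one_iff t).1 e))
  have hC := isCIT_quotient h W _ ho
  rw [show Subgroup.centralizer ({QuotientGroup.mk' W t} : Set (G ⧸ W)) = ⊤ from
    Subgroup.centralizer_eq_top_iff_subset.2 (Set.singleton_subset_iff.2 hcen)] at hC
  haveI : Fact (Nat.Prime 2) := ⟨Nat.prime_two⟩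
  haveI := (hC.of_equiv Subgroup.topEquiv).isNilpotent
  haveI : Group.IsSolvable W := Cfsg.Agent.S0205.result hWodd
  exact hns (Group.isSolvable_of_ker_le_range W.subtype (QuotientGroup.mk' W) (by
    rw [QuotientGroup.ker_mk', Subgroup.range_subtype]))

/-- A nonsolvable CIT group with trivial `O₂` has no solvable normal subgroup. -/
theorem eq_bot_of_solvable_normal (h : IsCIT G) (hns : ¬ Group.IsSolvable G) (h2 : Cfsg.pCore 2 G = ⊥)
    (N : Subgroup G) [N.Normal] (hN : Group.IsSolvable N) : N = ⊥ := by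
  by_contra hN1
  obtain ⟨V, hVn, hVN, hV1, hmin⟩ := Cores.MinNormal.exists_minimal_le hN1
  haveI := hVn
  haveI : Group.IsSolvable V := haveI := hN; Group.isSolvable_of_isSolvable_injective
    (f := Subgroup.inclusion hVN) (Subgroup.inclusion_injective _)
  haveI := Cores.MinNormal.isMulCommutative_of_solvable hV1 hmin
  obtain ⟨p, hp, hexp⟩ := Cores.MinNormal.exists_prime_pow_eq_one hV1 hmin
  haveI := Fact.mk hp
  have hVp := Cores.MinNormal.isPGroup_of_pow_eq_one hexp
  rcases eq_or_ne p 2 with rfl | hp2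
  · have hle := Cores.le_pCore hVp
    rw [h2] at hle; exact hV1 (le_bot_iff.1 hle)
  · obtain ⟨k, hk⟩ := hVp.exists_card_eq
    exact hV1 (eq_bot_of_odd h hns V (hk ▸ (hp.odd_of_ne_two hp2).pow))

theorem not_isSolvable_quotient_pCore (hns : ¬ Group.IsSolvable G) :
    ¬ Group.IsSolvable (G ⧸ Cfsg.pCore 2 G) := fun hq => by
  haveI : Fact (Nat.Prime 2) := ⟨Nat.prime_two⟩
  haveI := (Cores.pCore_isPGroup (G := G) 2).isNilpotent
  haveI := hq
  exact hns (Group.isSolvable_of_ker_le_range (Cfsg.pCore 2 G).subtype (QuotientGroup.mk' (Cfsg.pCore 2 G)) (by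
    rw [QuotientGroup.ker_mk', Subgroup.range_subtype]))

/-- Two elementwise commuting nonsolvable subgroups cannot exist. -/
theorem isSolvable_or_of_commute (h : IsCIT G) (A B : Subgroup G) (hc : ∀ a ∈ A, ∀ b ∈ B, Commute a b)
    (hA : ¬ Group.IsSolvable A) : Group.IsSolvable B := by
  by_contra hB
  haveI : Fact (Nat.Prime 2) := ⟨Nat.prime_two⟩
  obtain ⟨b, hb⟩ := exists_involution_of_not_isSolvable hB
  apply hA
  haveI := ((h b (by rwa [Subgroup.orderOf_coe])).to_le
    (fun a ha => mem_centralizer_singleton' (hc a ha b b.2).eq) : IsPGroup 2 A).isNilpotent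
  infer_instance

/-- The socle of a group without solvable normal subgroups in which commuting nonsolvable
subgroups do not exist. -/
theorem exists_socle_of (hns : ¬ Group.IsSolvable G)
    (hsol : ∀ (N : Subgroup G) [N.Normal], Group.IsSolvable N → N = ⊥)
    (hcom : ∀ A B : Subgroup G, (∀ a ∈ A, ∀ b ∈ B, Commute a b) → ¬ Group.IsSolvable A →
      Group.IsSolvable B) :
    ∃ S : Subgroup G, S.Normal ∧ IsSimpleGroup S ∧ ¬ IsMulCommutative S ∧
      Subgroup.centralizer (S : Set G) = ⊥ := by
  haveI : Nontrivial G := by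
    by_contra hcon
    rw [not_nontrivial_iff_subsingleton] at hcon
    exact hns inferInstance
  obtain ⟨S, hSn, hS1, hmin⟩ := Cores.MinNormal.exists_minimal (G := G)
  haveI := hSn
  have hSns : ¬ Group.IsSolvable S := fun hs => hS1 (hsol S hs)
  have hC : Subgroup.centralizer (S : Set G) = ⊥ := by
    haveI : (Subgroup.centralizer (S : Set G)).Normal := Subgroup.normal_centralizer
    exact hsol _ (hcom S _
      (fun a ha b hb => (Subgroup.mem_centralizer_iff.1 hb) a ha) hSns)
  refine ⟨S, hSn, ?_, fun hm => hSns (haveI := hm; Group.isSolvable_of_comm fun a b => mul_comm' a b), hC⟩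
  haveI : Nontrivial S := (Subgroup.nontrivial_iff_ne_bot S).2 hS1
  refine { eq_bot_or_eq_top_of_normal := fun H hH => ?_ }
  haveI := hH
  by_contra hcon
  push Not at hcon
  obtain ⟨M, hMn, hMH, hM1, hMmin⟩ := Cores.MinNormal.exists_minimal_le hcon.1
  haveI := hMn
  have hMns : ¬ Group.IsSolvable M := by
    intro hs
    refine hSns (?_ : Group.IsSolvable S)
    haveI := PrimePowerClass.Radical.solRad_characteristic (G := S)
    have hR : ((PrimePowerClass.Radical.solRad S).map S.subtype).Normal :=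
      ConjAct.normal_of_characteristic_of_normal
    rcases hmin _ hR (Subgroup.map_subtype_le _) with hb | ht
    · exact absurd (le_bot_iff.1 ((PrimePowerClass.Radical.le_solRad hs).trans
        ((Subgroup.map_eq_bot_iff_of_injective _ S.subtype_injective).1 hb).le)) hM1
    · haveI := PrimePowerClass.Radical.solRad_isSolvable (G := S)
      have := Group.isSolvable_of_surjective (S.subtype.subgroupMap_surjective (PrimePowerClass.Radical.solRad S))
      rwa [ht] at this
  -- the centralizer of `M` in `S` is solvable, hence trivial, so conjugates of `M` coincide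
  haveI : (Subgroup.centralizer (M : Set S)).Normal := Subgroup.normal_centralizer
  have hCM : Group.IsSolvable (Subgroup.centralizer (M : Set S)) := by
    haveI := hcom (M.map S.subtype) ((Subgroup.centralizer (M : Set S)).map S.subtype)
      (by rintro _ ⟨a, ha, rfl⟩ _ ⟨b, hb, rfl⟩
          exact (show Commute a b from (Subgroup.mem_centralizer_iff.1 hb) a ha).map S.subtype)
      (fun hs => hMns (Group.isSolvable_of_isSolvable_injective
        (f := (M.equivMapOfInjective _ S.subtype_injective).toMonoidHom) (MulEquiv.injective _)))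
    exact Group.isSolvable_of_isSolvable_injective
      (f := ((Subgroup.centralizer (M : Set S)).equivMapOfInjective _ S.subtype_injective).toMonoidHom)
      (MulEquiv.injective _)
  have hinv : ∀ g : G, M.map (MulAut.conjNormal g : MulAut S).toMonoidHom = M := by
    intro g
    set M' := M.map (MulAut.conjNormal g : MulAut S).toMonoidHom
    haveI : M'.Normal := Subgroup.Normal.map hMn _ (MulAut.conjNormal g : MulAut S).surjective
    have hMM : M' ⊓ M ≠ ⊥ := fun hb => by
      refine hMns ?_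
      have hle : M' ≤ Subgroup.centralizer (M : Set S) := fun x hx => Subgroup.mem_centralizer_iff.2
        fun y hy => Subgroup.commute_of_normal_of_disjoint M M' hMn ‹_› (disjoint_iff.2 (inf_comm M M' ▸ hb)) y x hy hx
      haveI := hCM
      exact Group.isSolvable_of_isSolvable_injective
        (f := (Subgroup.inclusion hle).comp
          (M.equivMapOfInjective _ (MulAut.conjNormal g : MulAut S).injective).toMonoidHom)
        ((Subgroup.inclusion_injective hle).comp (MulEquiv.injective _))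
    have heq : M' ⊓ M = M := (hMmin _ inferInstance inf_le_right).resolve_left hMM
    exact (Subgroup.eq_of_le_of_card_ge (show M ≤ M' from fun x hx => (heq.symm ▸ hx : x ∈ M' ⊓ M).1)
      (Subgroup.card_map_of_injective (MulAut.conjNormal g : MulAut S).injective).le).symm
  have hMG : (M.map S.subtype).Normal := ⟨fun n hn g => by
    obtain ⟨m, hm, rfl⟩ := hn
    exact ⟨MulAut.conjNormal g m, hinv g ▸ ⟨m, hm, rfl⟩, by simp⟩⟩
  rcases hmin _ hMG (Subgroup.map_subtype_le _) with hb | ht
  · exact hM1 ((Subgroup.map_eq_bot_iff_of_injective _ S.subtype_injective).1 hb)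
  · refine hcon.2 (top_le_iff.1 ?_)
    intro x _
    obtain ⟨m, hm, hmx⟩ := (ht.symm ▸ x.2 : (x : G) ∈ M.map S.subtype)
    exact hMH (S.subtype_injective hmx ▸ hm)


/-- The socle. -/
theorem exists_socle (h : IsCIT G) (hns : ¬ Group.IsSolvable G) (h2 : Cfsg.pCore 2 G = ⊥) :
    ∃ S : Subgroup G, S.Normal ∧ IsSimpleGroup S ∧ ¬ IsMulCommutative S ∧
      Subgroup.centralizer (S : Set G) = ⊥ :=
  exists_socle_of hns (fun N _ hN => eq_bot_of_solvable_normal h hns h2 N hN)
    (isSolvable_or_of_commute h)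


/-- A normal subgroup of odd index all of whose involutions are conjugate in it is the whole group. -/
theorem eq_top_of_odd_index (h : IsCIT G) (S : Subgroup G) [S.Normal] (hodd : Odd S.index)
    (heven : ∃ t : S, orderOf t = 2)
    (hclass : ∀ s t : S, orderOf s = 2 → orderOf t = 2 → IsConj s t) : S = ⊤ := by
  obtain ⟨z, hz⟩ := heven
  have hzG : orderOf (z : G) = 2 := by rw [Subgroup.orderOf_coe, hz]
  rw [Subgroup.eq_top_iff']
  intro g
  have hw : orderOf (⟨g * z * g⁻¹, (inferInstance : S.Normal).conj_mem _ z.2 g⟩ : S) = 2 := by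
    rw [Subgroup.orderOf_mk, ← hzG]
    simpa using (MulAut.conj g).orderOf_eq (z : G)
  obtain ⟨c, hc⟩ := isConj_iff.1 (hclass z _ hz hw)
  have hc' : (c : G) * z * (c : G)⁻¹ = g * z * g⁻¹ := congrArg Subtype.val hc
  have hmem : (c : G)⁻¹ * g ∈ Subgroup.centralizer ({(z : G)} : Set G) := by
    refine mem_centralizer_singleton' ?_
    calc (c : G)⁻¹ * g * z = (c : G)⁻¹ * (g * z * g⁻¹) * g := by group
      _ = z * ((c : G)⁻¹ * g) := by rw [← hc']; group
  obtain ⟨k, hk⟩ := IsPGroup.iff_orderOf.1 (h _ hzG) ⟨_, hmem⟩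
  rw [Subgroup.orderOf_mk] at hk
  have h1 : orderOf (QuotientGroup.mk' S ((c : G)⁻¹ * g)) ∣ 2 ^ k := hk ▸ orderOf_map_dvd _ _
  have h2 : orderOf (QuotientGroup.mk' S ((c : G)⁻¹ * g)) ∣ S.index := by
    rw [Subgroup.index_eq_card]; exact orderOf_dvd_natCard _
  have h3 := Nat.eq_one_of_dvd_coprimes (((Nat.coprime_two_left.2 hodd)).pow_left k) h1 h2
  have h4 : (c : G)⁻¹ * g ∈ S := (QuotientGroup.eq_one_iff _).1 (orderOf_eq_one_iff.1 h3)
  simpa using S.mul_mem c.2 h4

end Cfsg.Agent.Lib.CITReduce
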