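import Cfsg.Prelude.Def_Exceptional
import Cfsg.Prelude.Def_KGroupFacts
import Cfsg.Agent.S2126
import Cfsg.Agent.Lib.CITReduce.Basic
import Cfsg.Agent.Lib.PrimeGraph.Three
import Cfsg.Agent.Lib.NumberTheory.Zsigmondy
import Cfsg.Agent.Lib.Linear.Order
import Cfsg.Agent.Lib.SzTori.Normalizer
import Cfsg.Agent.Lib.LieTwisted.SuzukiSylow
import Cfsg.Agent.Lib.Sz8Cover.Transfer
import Cfsg.Agent.Lib.FTClassSize.Basic

/-!
# Groups with the prime graph of a Suzuki group

Given the classification of the simple groups with 2-groups as involution centralizers and the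
recognition of the Suzuki groups among them, a group with the prime graph of `Sz(q)` is `Sz(q)`
modulo `O₂`.

Owner: helper32.
-/

set_option autoImplicit false
set_option linter.style.haveILetI false
set_option linter.unusedSectionVars false

namespace Cfsg.Agent.Lib.CITReduce.SuzukiGraph

open Cfsg.Agent.Lib.CIT Cfsg.Agent.Lib.LieTwisted.Suzuki Cfsg.Agent.Lib.SzTori
  Cfsg.Agent.Lib.SzElements.Basic

universe u

/-- The simple CIT groups, with the Suzuki groups recognised. -/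
def SimpleCITClass : Prop :=
  ∀ (S : Type u) [Group S] [Finite S] [IsSimpleGroup S], (∃ a b : S, a * b ≠ b * a) →
    (∀ t : S, orderOf t = 2 → IsPGroup 2 (Subgroup.centralizer ({t} : Set S))) →
    (∃ (F : Type) (_ : Field F) (_ : Fintype F),
        (Fintype.card F = 9 ∨ (∃ n : ℕ, Fintype.card F = 2 ^ n) ∨
          ((Fintype.card F).Prime ∧ ∃ k : ℕ, Fintype.card F = 2 ^ k + 1 ∨ Fintype.card F + 1 = 2 ^ k)) ∧
        Nonempty (S ≃* Matrix.ProjectiveSpecialLinearGroup (Fin 2) F)) ∨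
    (∃ (F : Type) (_ : Field F) (_ : Fintype F), Fintype.card F = 4 ∧
        Nonempty (S ≃* Matrix.ProjectiveSpecialLinearGroup (Fin 3) F)) ∨
    Cfsg.Lie.IsoSuzuki S

/-! ## The Suzuki groups -/

section Sz

variable {F : Type*} [Field F] [Fintype F] {m : ℕ} (h : IsSzField F m) (hm : 1 ≤ m)
include h hm

theorem three_not_dvd : ¬ 3 ∣ Nat.card (Cfsg.Sz F m) := by
  have hq : Fintype.card F % 3 = 2 := by
    rw [h.card, pow_succ, pow_mul, Nat.mul_mod, Nat.pow_mod]; norm_num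
  rw [h.card_group hm, Nat.prime_three.dvd_mul, Nat.prime_three.dvd_mul]
  rintro ((h1 | h1) | h1)
  · have := Nat.prime_three.dvd_of_dvd_pow h1; omega
  · have h2 : (Fintype.card F ^ 2 + 1) % 3 = 2 := by rw [Nat.add_mod, Nat.pow_mod, hq]
    omega
  · omega

theorem conj_into_unip {t : Cfsg.Sz F m} (ht : IsPGroup 2 (Subgroup.zpowers t)) :
    ∃ g : Cfsg.Sz F m, g⁻¹ * t * g ∈ unip h := by
  haveI : Fact (Nat.Prime 2) := ⟨Nat.prime_two⟩
  obtain ⟨P, hP⟩ := ht.exists_le_sylow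
  obtain ⟨g, hg⟩ := LieTwisted.Suzuki.IsSzField.conj_sylow h hm P
  obtain ⟨u, hu, hut⟩ := (hg ▸ hP (Subgroup.mem_zpowers t) :
    t ∈ (unip h).map (MulAut.conj g).toMonoidHom)
  refine ⟨g, ?_⟩
  rw [← hut]
  simpa [mul_assoc] using hu

theorem isCIT : IsCIT (Cfsg.Sz F m) := by
  haveI : Fact (Nat.Prime 2) := ⟨Nat.prime_two⟩
  intro t ht
  obtain ⟨g, hg⟩ := conj_into_unip h hm (IsPGroup.of_card (p := 2) (n := 1) (by rw [Nat.card_zpowers, ht, pow_one]))
  rintro ⟨c, hc⟩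
  have ht1 : g⁻¹ * t * g ≠ 1 := fun e => by
    have : t = 1 := by simpa [mul_assoc] using congrArg (fun w => g * w * g⁻¹) e
    rw [this, orderOf_one] at ht; omega
  have hc' : g⁻¹ * c * g ∈ Subgroup.centralizer ({g⁻¹ * t * g} : Set (Cfsg.Sz F m)) := by
    refine mem_centralizer_singleton' ?_
    calc g⁻¹ * c * g * (g⁻¹ * t * g) = g⁻¹ * (c * t) * g := by group
      _ = g⁻¹ * (t * c) * g := by rw [Subgroup.mem_centralizer_singleton_iff.1 hc]
      _ = _ := by group
  have h4 := pow_four_of_mem h hm (centralizer_unip_le h hm hg ht1 hc')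
  refine ⟨2, Subtype.ext ?_⟩
  have := congrArg (fun w => g * w * g⁻¹) h4
  simpa [conj_pow, mul_assoc] using (show c ^ 4 = 1 by
    have e : g * (g⁻¹ * c * g) ^ 4 * g⁻¹ = c ^ 4 := by rw [← conj_pow]; congr 1; group
    rw [h4] at e
    rw [← e]; group)

theorem isConj_involutions {s t : Cfsg.Sz F m} (hs : orderOf s = 2) (ht : orderOf t = 2) : IsConj s t := by
  haveI : Fact (Nat.Prime 2) := ⟨Nat.prime_two⟩
  have key : ∀ t : Cfsg.Sz F m, orderOf t = 2 → IsConj t (uS h 0 1) := by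
    intro t ht
    obtain ⟨g, a, b, hab⟩ := conj_into_unip h hm (IsPGroup.of_card (p := 2) (n := 1) (by rw [Nat.card_zpowers, ht, pow_one]))
    have ho : orderOf (uS h a b) = 2 := by
      rw [← hab, ← ht]
      simpa using (MulAut.conj g⁻¹).orderOf_eq t
    have ha : a = 0 := eq_zero_of_sq h (by rw [← ho, pow_orderOf_eq_one])
    subst ha
    have hb : b ≠ 0 := fun e => by rw [e, h.uS_zero, orderOf_one] at ho; omega
    obtain ⟨e, he⟩ := scalar_surjective h (inv_ne_zero hb)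
    have h1 : IsConj t (uS h 0 b) := isConj_iff.2 ⟨g⁻¹, by rw [inv_inv, hab]⟩
    refine h1.trans (isConj_iff.2 ⟨uS h 0 0 * dS h e, ?_⟩)
    rw [conj_center, he, inv_mul_cancel₀ hb]
  exact (key s hs).trans (key t ht).symm

/-- A prime divisor of `q - 1` and one of `q ^ 2 + 1` are not adjacent. -/
theorem no_order {r₁ r₂ : ℕ} (h1 : r₁.Prime) (h2 : r₂.Prime) (hd1 : r₁ ∣ Fintype.card F - 1)
    (hd2 : r₂ ∣ Fintype.card F ^ 2 + 1) : ¬ ∃ x : Cfsg.Sz F m, orderOf x = r₁ * r₂ := by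
  rintro ⟨x, hx⟩
  obtain ⟨h5, hnd⟩ := prime_facts h hm h2 hd2
  have hu : orderOf (x ^ r₁) = r₂ := by
    rw [orderOf_pow_of_dvd h1.ne_zero (hx ▸ dvd_mul_right _ _), hx, Nat.mul_div_cancel_left _ h1.pos]
  have hnf : ¬ HasFix (x ^ r₁) := by
    intro hf
    obtain ⟨g, hg | ⟨e, -, hg⟩⟩ := fix_cases h hm hf
    · have h4 : r₂ ∣ 4 := by
        rw [← hu]
        have ho := orderOf_dvd_of_pow_eq_one (pow_four_of_mem h hm hg)
        have hc := (MulAut.conj g⁻¹).orderOf_eq (x ^ r₁)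
        simp only [MulAut.conj_apply, inv_inv] at hc
        rwa [hc] at ho
      have := Nat.le_of_dvd (by norm_num) h4
      omega
    · refine hnd (Dvd.dvd.mul_left ?_ _)
      rw [← hu]
      have ho := orderOf_dvd_of_pow_eq_one (dS_pow_card h hm e)
      rw [← hg] at ho
      have hc := (MulAut.conj g⁻¹).orderOf_eq (x ^ r₁)
      simp only [MulAut.conj_apply, inv_inv] at hc
      rwa [hc] at ho
  have hin : InE (x ^ r₁) := inE_of_not_fix h hm hnf
  have hmem : x ∈ Subgroup.centralizer ({x ^ r₁} : Set (Cfsg.Sz F m)) :=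
    mem_centralizer_singleton' ((Commute.refl x).pow_right _).eq
  have hd : r₁ ∣ Fintype.card F ^ 2 + 1 :=
    ((hx ▸ dvd_mul_right r₁ r₂ : r₁ ∣ orderOf x).trans (Subgroup.orderOf_dvd_natCard _ hmem)).trans
      (torus_card_dvd h hm hin)
  exact (prime_facts h hm h1 hd).2 (hd1.mul_left _)

/-- A primitive prime divisor of `q ^ 4 - 1` divides the order. -/
theorem dvd_card_of_primitive {r : ℕ} (hr : r.Prime)
    (hd : r ∣ 2 ^ (4 * (2 * m + 1)) - 1) (hprim : ∀ k, 0 < k → k < 4 * (2 * m + 1) → ¬ r ∣ 2 ^ k - 1) :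
    r ∣ Nat.card (Cfsg.Sz F m) := by
  have hx : 1 ≤ 2 ^ (2 * (2 * m + 1)) := Nat.one_le_two_pow
  have hfac : 2 ^ (4 * (2 * m + 1)) - 1 = (2 ^ (2 * (2 * m + 1)) - 1) * (2 ^ (2 * (2 * m + 1)) + 1) := by
    rw [show 4 * (2 * m + 1) = (2 * (2 * m + 1)) * 2 by ring, pow_mul, mul_comm (_ - 1)]
    exact (Nat.sq_sub_sq _ 1).trans (by ring_nf)
  rw [hfac] at hd
  rcases hr.dvd_mul.1 hd with h1 | h1
  · exact absurd h1 (hprim _ (by omega) (by omega))
  · rw [h.card_group hm, h.card, ← pow_mul, mul_comm (2 * m + 1) 2]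
    exact (h1.mul_left _).mul_right _

theorem dvd_two_pow_sub_one {r : ℕ} (hr : r.Prime) (hr2 : r ≠ 2) (hd : r ∣ Nat.card (Cfsg.Sz F m)) :
    r ∣ 2 ^ (4 * (2 * m + 1)) - 1 := by
  rw [h.card_group hm, h.card] at hd
  set q := 2 ^ (2 * m + 1) with hqdef
  have hq : 1 ≤ q := Nat.one_le_two_pow
  have hfac : 2 ^ (4 * (2 * m + 1)) - 1 = (q ^ 2 + 1) * ((q + 1) * (q - 1)) := by
    rw [mul_comm 4, pow_mul, ← hqdef]
    zify [hq, Nat.one_le_pow 4 q hq]
    ring
  rw [hfac]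
  rcases hr.dvd_mul.1 hd with h1 | h1
  · rcases hr.dvd_mul.1 h1 with h2 | h2
    · exact absurd ((Nat.prime_dvd_prime_iff_eq hr Nat.prime_two).1
        (hr.dvd_of_dvd_pow (hr.dvd_of_dvd_pow h2))) hr2
    · exact h2.mul_right _
  · exact (h1.mul_left _).mul_left _

end Sz

/-- Equal prime divisors force equal fields. -/
theorem eq_of_primes {F K : Type*} [Field F] [Fintype F] [Field K] [Fintype K] {m n : ℕ}
    (hF : IsSzField F m) (hm : 1 ≤ m) (hK : IsSzField K n) (hn : 1 ≤ n)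
    (hpr : ∀ r : ℕ, r.Prime → (r ∣ Nat.card (Cfsg.Sz F m) ↔ r ∣ Nat.card (Cfsg.Sz K n))) : m = n := by
  refine Nat.le_antisymm ?_ ?_
  · obtain ⟨r, hr, hd, hprim⟩ := NumberTheory.exists_primitive_prime_divisor (q := 2) (n := 4 * (2 * m + 1))
      le_rfl (by omega) (by omega) (by omega)
    have hr2 : r ≠ 2 := by
      rintro rfl
      have : Odd (2 ^ (4 * (2 * m + 1)) - 1) :=
        Nat.Even.sub_odd Nat.one_le_two_pow (Nat.even_pow.2 ⟨even_two, by omega⟩) odd_one
      exact (Nat.not_even_iff_odd.2 this) (even_iff_two_dvd.2 hd)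
    have h2 := dvd_two_pow_sub_one hK hn hr hr2 ((hpr r hr).1 (dvd_card_of_primitive hF hm hr hd hprim))
    by_contra hlt
    exact hprim _ (by omega) (by omega) h2
  · obtain ⟨r, hr, hd, hprim⟩ := NumberTheory.exists_primitive_prime_divisor (q := 2) (n := 4 * (2 * n + 1))
      le_rfl (by omega) (by omega) (by omega)
    have hr2 : r ≠ 2 := by
      rintro rfl
      have : Odd (2 ^ (4 * (2 * n + 1)) - 1) :=
        Nat.Even.sub_odd Nat.one_le_two_pow (Nat.even_pow.2 ⟨even_two, by omega⟩) odd_one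
      exact (Nat.not_even_iff_odd.2 this) (even_iff_two_dvd.2 hd)
    have h2 := dvd_two_pow_sub_one hF hm hr hr2 ((hpr r hr).2 (dvd_card_of_primitive hK hn hr hd hprim))
    by_contra hlt
    exact hprim _ (by omega) (by omega) h2

theorem card_mulAut {L : Type*} [Group L] (hL : Subgroup.center L = ⊥) :
    Nat.card (MulAut L) = Nat.card (Cfsg.Out L) * Nat.card L := by
  rw [Subgroup.card_eq_card_quotient_mul_card_subgroup (Cfsg.Inn L)]
  congr 1
  refine (Nat.card_congr (MonoidHom.ofInjective (f := (MulAut.conj : L →* MulAut L)) ?_).toEquiv).symm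
  rw [injective_iff_map_eq_one]
  intro x hx
  refine Subgroup.mem_bot.1 (hL ▸ Subgroup.mem_center_iff.2 fun y => ?_)
  have := congrArg (fun a : MulAut L => a y) hx
  exact (mul_inv_eq_iff_eq_mul.1 this).symm

theorem three_dvd_psl2 (F : Type) [Field F] [Fintype F] :
    3 ∣ Nat.card (Matrix.ProjectiveSpecialLinearGroup (Fin 2) F) := by
  set q := Fintype.card F with hq
  have h2 := Fintype.one_lt_card (α := F)
  have h3 : 3 ∣ q * (q - 1) * (q + 1) := by
    have hm := Nat.mod_lt q (by norm_num : 3 > 0)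
    interval_cases h : q % 3
    · exact ((Nat.dvd_of_mod_eq_zero h).mul_right _).mul_right _
    · exact ((Nat.dvd_of_mod_eq_zero (by omega : (q - 1) % 3 = 0)).mul_left _).mul_right _
    · exact (Nat.dvd_of_mod_eq_zero (by omega : (q + 1) % 3 = 0)).mul_left _
  rcases Nat.even_or_odd q with he | ho
  · rwa [Linear.card_PSL_two_of_even (F := F) he]
  · rw [← Linear.two_mul_card_PSL_two_of_odd (F := F) ho] at h3
    exact (Nat.Coprime.dvd_of_dvd_mul_left (by norm_num) h3)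

/-- A group with the prime graph of a Suzuki group. -/
theorem main (hcls : SimpleCITClass.{u}) {F : Type*} [Field F] [Fintype F] (m : ℕ) (hm : 1 ≤ m)
    (hF : Fintype.card F = 2 ^ (2 * m + 1)) {G : Type u} [Group G] [Finite G]
    (hp : ∀ r : ℕ, r.Prime → (r ∣ Nat.card ↥(Cfsg.Lie.Sz F (2 ^ (m + 1))) ↔ r ∣ Nat.card G))
    (he : ∀ r s : ℕ, r.Prime → s.Prime → r ≠ s →
      ((∃ x : ↥(Cfsg.Lie.Sz F (2 ^ (m + 1))), orderOf x = r * s) ↔ (∃ y : G, orderOf y = r * s))) :
    Nonempty (G ⧸ Cfsg.pCore 2 G ≃* ↥(Cfsg.Lie.Sz F (2 ^ (m + 1)))) := by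
  have h : IsSzField F m := ⟨hF⟩
  let eL := szEquiv h hm
  haveI : Finite (Cfsg.Sz F m) := Finite.of_injective (fun g : Cfsg.Sz F m => g.1) Subtype.val_injective
  have hcardL : Nat.card ↥(Cfsg.Lie.Sz F (2 ^ (m + 1))) = Nat.card (Cfsg.Sz F m) := (Nat.card_congr eL.toEquiv).symm
  have hord : ∀ n, (∃ x : ↥(Cfsg.Lie.Sz F (2 ^ (m + 1))), orderOf x = n) ↔ (∃ x : Cfsg.Sz F m, orderOf x = n) :=
    fun n => ⟨fun ⟨x, hx⟩ => ⟨eL.symm x, by rw [MulEquiv.orderOf_eq, hx]⟩,
      fun ⟨x, hx⟩ => ⟨eL x, by rw [MulEquiv.orderOf_eq, hx]⟩⟩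
  have hcit : IsCIT G := isCIT_of_forall fun p hp' hp2 hex => by
    obtain ⟨x, hx⟩ := (hord _).1 ((he 2 p Nat.prime_two hp' (Ne.symm hp2)).2 hex)
    exact hp2 (eq_two (isCIT h hm) hp' (hx ▸ dvd_mul_left p 2) (hx ▸ dvd_mul_right 2 p))
  -- three pairwise non-adjacent primes
  have hqf := h.two_lt_card hm
  obtain ⟨r₁, hr₁, hd₁⟩ := Nat.exists_prime_and_dvd (n := Fintype.card F - 1) (by omega)
  obtain ⟨r₂, hr₂, hd₂⟩ := Nat.exists_prime_and_dvd (n := Fintype.card F ^ 2 + 1)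
    (by have := Nat.one_le_pow 2 (Fintype.card F) (by omega); omega)
  obtain ⟨h5, hnd⟩ := prime_facts h hm hr₂ hd₂
  have h12 : r₁ ≠ r₂ := fun e => hnd (e ▸ hd₁.mul_left _)
  have hr₁2 : r₁ ≠ 2 := by
    rintro rfl
    have h2 : 2 ∣ Fintype.card F := by rw [h.card]; exact dvd_pow_self 2 (by omega)
    omega
  have hdG : ∀ r : ℕ, r.Prime → r ∣ Nat.card (Cfsg.Sz F m) → r ∣ Nat.card G := fun r hr hd =>
    (hp r hr).1 (hcardL ▸ hd)
  have hns : ¬ Group.IsSolvable G := by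
    refine PrimeGraph.Three.not_isSolvable_of_three Nat.prime_two hr₁ hr₂ hr₁2.symm (by omega) h12
      (hdG 2 Nat.prime_two ?_) (hdG r₁ hr₁ ?_) (hdG r₂ hr₂ ?_) ?_ ?_ ?_
    · rw [h.card_group hm, h.card]
      exact ((dvd_pow (dvd_pow_self 2 (by omega)) (by norm_num)).mul_right _).mul_right _
    · rw [h.card_group hm]; exact hd₁.mul_left _
    · rw [h.card_group hm]; exact (hd₂.mul_left _).mul_right _
    · rintro ⟨x, hx⟩
      exact hr₁2 (eq_two hcit hr₁ (hx ▸ dvd_mul_left r₁ 2) (hx ▸ dvd_mul_right 2 r₁))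
    · rintro ⟨x, hx⟩
      exact absurd (eq_two hcit hr₂ (hx ▸ dvd_mul_left r₂ 2) (hx ▸ dvd_mul_right 2 r₂)) (by omega)
    · intro hex
      exact no_order h hm hr₁ hr₂ hd₁ hd₂ ((hord _).1 ((he r₁ r₂ hr₁ hr₂ h12).2 hex))
  -- the socle
  set V := Cfsg.pCore 2 G with hV
  obtain ⟨S, hSn, hsim, hna, hC⟩ := exists_socle (isCIT_quotient hcit V) (not_isSolvable_quotient_pCore hns)
    (Cores.pCore_quotient_pCore 2)
  haveI := hSn
  haveI := hsim
  have hne : ∃ a b : S, a * b ≠ b * a := by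
    by_contra hc
    push Not at hc
    exact hna ⟨⟨hc⟩⟩
  have hSG : Nat.card S ∣ Nat.card G :=
    (Subgroup.card_subgroup_dvd_card S).trans (Subgroup.card_quotient_dvd_card V)
  have h3G : ¬ 3 ∣ Nat.card G := fun hd =>
    three_not_dvd h hm (hcardL ▸ (hp 3 Nat.prime_three).2 hd)
  rcases hcls S hne (isCIT_subgroup (isCIT_quotient hcit V) S) with ⟨K, _, _, -, ⟨e⟩⟩ | ⟨K, _, _, hK, ⟨e⟩⟩ |
      ⟨K, _, _, n, hn, hK, ⟨e⟩⟩
  · exact absurd ((((Nat.card_congr e.toEquiv).symm ▸ three_dvd_psl2 K : 3 ∣ Nat.card S)).trans hSG) h3G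
  · refine absurd (Dvd.dvd.trans ?_ hSG) h3G
    have h1 := Linear.sub_one_mul_card_SL (F := K) 3 (by norm_num)
    have h2 := Linear.card_SL_eq_gcd_mul_card_PSL (ι := Fin 3) (F := K)
    rw [hK, Fin.prod_univ_three] at h1
    rw [Fintype.card_fin, Nat.card_eq_fintype_card (α := K), hK, show Nat.gcd 3 (4 - 1) = 3 by decide] at h2
    norm_num [h2] at h1
    rw [Nat.card_congr e.toEquiv]
    omega
  -- the Suzuki case
  have hk : IsSzField K n := ⟨hK⟩
  let eS : S ≃* Cfsg.Sz K n := e.trans (szEquiv hk hn).symm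
  -- odd index
  have hLc : Subgroup.center ↥(Cfsg.Lie.Sz K (2 ^ (n + 1))) = ⊥ := by
    have hS := FTClassSize.center_eq_bot_of_simple hna
    rw [Subgroup.eq_bot_iff_forall]
    intro x hx
    have : e.symm x ∈ Subgroup.center S := Subgroup.mem_center_iff.2 fun y => e.injective (by
      rw [map_mul, map_mul, e.apply_symm_apply, Subgroup.mem_center_iff.1 hx (e y)])
    rw [hS, Subgroup.mem_bot] at this
    simpa using congrArg e this
  have hconj : Function.Injective (MulAut.conjNormal : G ⧸ V →* MulAut S) := by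
    rw [injective_iff_map_eq_one]
    intro g hg
    refine Subgroup.mem_bot.1 (hC ▸ Subgroup.mem_centralizer_iff.2 fun s hs => ?_)
    have := congrArg (fun a : MulAut S => ((a ⟨s, hs⟩ : S) : G ⧸ V)) hg
    simp only [MulAut.conjNormal_apply, MulAut.one_apply] at this
    exact (mul_inv_eq_iff_eq_mul.1 this).symm
  have hidx : Odd S.index := by
    have hd := dvd_trans (Subgroup.card_dvd_of_injective _ hconj) (dvd_of_eq
      ((Nat.card_congr (MulAut.congr e).toEquiv).trans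
        ((card_mulAut hLc).trans (congrArg₂ (· * ·) (S2126.result hn hK) (Nat.card_congr e.toEquiv).symm))))
    rw [← Subgroup.index_mul_card S] at hd
    exact (odd_two_mul_add_one n).of_dvd_nat (Nat.dvd_of_mul_dvd_mul_right Nat.card_pos hd)
  have hcl : ∀ s t : S, orderOf s = 2 → orderOf t = 2 → IsConj s t := by
    intro s t hs ht
    have := isConj_involutions hk hn (s := eS s) (t := eS t) (by rw [MulEquiv.orderOf_eq, hs])
      (by rw [MulEquiv.orderOf_eq, ht])
    obtain ⟨c, hc⟩ := isConj_iff.1 this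
    exact isConj_iff.2 ⟨eS.symm c, eS.injective (by simp [hc])⟩
  have heven : ∃ t : S, orderOf t = 2 := exists_involution_of_not_isSolvable fun hs =>
    hna ⟨⟨IsSimpleGroup.comm_iff_isSolvable.2 hs⟩⟩
  have hStop := eq_top_of_odd_index (isCIT_quotient hcit V) S hidx heven hcl
  -- the field
  have hmn : m = n := by
    refine eq_of_primes h hm hk hn fun r hr => ?_
    rw [← hcardL, hp r hr, ← Nat.card_congr eS.toEquiv, hStop, Subgroup.card_top]
    haveI : Fact (Nat.Prime 2) := ⟨Nat.prime_two⟩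
    obtain ⟨k, hkV⟩ := (Cores.pCore_isPGroup (G := G) 2).exists_card_eq
    rw [Subgroup.card_eq_card_quotient_mul_card_subgroup V, hkV]
    constructor
    · intro hd
      rcases hr.dvd_mul.1 hd with h1 | h1
      · exact h1
      · rw [(Nat.prime_dvd_prime_iff_eq hr Nat.prime_two).1 (hr.dvd_of_dvd_pow h1)]
        obtain ⟨t, ht⟩ := heven
        rw [← ht, ← Subgroup.orderOf_coe]
        exact orderOf_dvd_natCard _
    · exact fun hd => hd.mul_right _
  subst hmn
  obtain ⟨ρ⟩ : Nonempty (K ≃+* F) := ⟨FiniteField.ringEquivOfCardEq (hK.trans hF.symm)⟩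
  exact ⟨((Subgroup.topEquiv.symm.trans (MulEquiv.subgroupCongr hStop.symm)).trans eS).trans
    ((Sz8Cover.szCongr hk h hm ρ).trans eL)⟩

end Cfsg.Agent.Lib.CITReduce.SuzukiGraph
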